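import Cfsg.Agent.S0215
import Cfsg.Agent.Lib.LocalCore

/-!
# The Z*-endgame (helper249, S2539 part 5)

`false_of_isolated` : `T` abelian, `M` the largest proper subgroup containing `T`, `C_G(z) ≤ M`, `z ∈ L = [L, L]` an
isolated involution: impossible.
-/

set_option autoImplicit false

namespace Cfsg.Agent.H249.OT

open Subgroup

/-- an isolated involution: `G = N C_G(z)`, `N` normal of odd order -/
theorem exists_core {G : Type*} [Group G] [Finite G] {z : G} (hz : orderOf z = 2)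
    (hiso : ∀ g : G, Commute z (g * z * g⁻¹) → g * z * g⁻¹ = z) :
    ∃ N : Subgroup G, N.Normal ∧ Odd (Nat.card ↥N) ∧ ∀ g : G, ∃ n ∈ N, (n * g) * z = z * (n * g) := by
  have h2 : Fact (Nat.Prime 2) := ⟨Nat.prime_two⟩
  have hp : IsPGroup 2 ↥(zpowers z) := IsPGroup.of_card (n := 1) (by rw [Nat.card_zpowers, hz, pow_one])
  obtain ⟨P, hP⟩ := hp.exists_le_sylow
  have hzP : z ∈ P := hP (mem_zpowers z)
  have hPC : (P : Subgroup G) ≤ centralizer ({z} : Set G) := by
    by_contra hcon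
    have hlt : (centralizer ({z} : Set G)).subgroupOf (P : Subgroup G) < ⊤ := by
      rw [lt_top_iff_ne_top]
      intro h
      exact hcon (subgroupOf_eq_top.1 h)
    have hnil : Group.IsNilpotent ↥(P : Subgroup G) := P.isPGroup'.isNilpotent
    have h3 := Group.normalizerCondition_of_isNilpotent (G := ↥(P : Subgroup G)) _ hlt
    obtain ⟨n, hn, hnC⟩ := SetLike.exists_of_lt h3
    apply hnC
    rw [mem_subgroupOf, mem_centralizer_singleton_iff]
    have h4 := (mem_normalizer_iff.1 hn (⟨z, hzP⟩ : ↥(P : Subgroup G))).1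
      (mem_subgroupOf.2 (mem_centralizer_singleton_iff.2 rfl))
    have h5 := hiso n (show z * (n * z * n⁻¹) = n * z * n⁻¹ * z from
      (mem_centralizer_singleton_iff.1 (mem_subgroupOf.1 h4)).symm)
    exact (mul_inv_eq_iff_eq_mul.1 h5)
  obtain ⟨N, hN, hNo, hc⟩ := Cfsg.Agent.S0215.result P z hz hzP (fun g hg =>
    hiso g (show z * (g * z * g⁻¹) = g * z * g⁻¹ * z from (mem_centralizer_singleton_iff.1 (hPC hg)).symm))
  refine ⟨N, hN, hNo, fun g => ?_⟩
  have hcop : (Nat.card ↥N).Coprime 2 := Nat.coprime_two_right.2 hNo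
  have h0 : g * z * g⁻¹ * z⁻¹ ∈ N := by
    have h1 := N.inv_mem (hc g)
    have e : (z * g * z⁻¹ * g⁻¹)⁻¹ = g * z * g⁻¹ * z⁻¹ := by group
    rwa [e] at h1
  have h1 : g * z * g⁻¹ ∈ zpowers z ⊔ N := by
    have h2 : g * z * g⁻¹ = (g * z * g⁻¹ * z⁻¹) * z := by group
    rw [h2]
    exact mul_mem (mem_sup_right h0) (mem_sup_left (mem_zpowers z))
  have hg : ∀ x ∈ zpowers z, g * x * g⁻¹ ∈ zpowers z ⊔ N := by
    rintro _ ⟨k, rfl⟩
    change g * z ^ k * g⁻¹ ∈ _
    rw [← conj_zpow]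
    exact zpow_mem h1 k
  obtain ⟨n, hn, hng⟩ := Lib.LocalCore.exists_mul_mem_normalizer 2 N (zpowers z) hcop hp hg
  refine ⟨n, hn, ?_⟩
  have h3 : (n * g) * z * (n * g)⁻¹ ∈ zpowers z := (mem_normalizer_iff.1 hng z).1 (mem_zpowers z)
  have h4 : Commute z ((n * g) * z * (n * g)⁻¹) := by
    obtain ⟨k, hk⟩ := h3
    rw [← hk]
    exact (Commute.refl z).zpow_right k
  exact mul_inv_eq_iff_eq_mul.1 (hiso (n * g) h4)

theorem false_of_isolated {G : Type*} [Group G] [Finite G] {T L M : Subgroup G} {z : G}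
    (hab : ∀ a ∈ T, ∀ b ∈ T, a * b = b * a) (hM : M ≠ ⊤) (hu : ∀ H : Subgroup G, T ≤ H → H ≠ ⊤ → H ≤ M)
    (hcz : ∀ g : G, g * z = z * g → g ∈ M) (hL : ⁅L, L⁆ = L) (hzL : z ∈ L) (hz : orderOf z = 2)
    (hiso : ∀ g : G, Commute z (g * z * g⁻¹) → g * z * g⁻¹ = z) : False := by
  obtain ⟨N, hN, hodd, hall⟩ := exists_core hz hiso
  by_cases hNT : T ⊔ N = ⊤
  · have hcomm : commutator G ≤ N := by
      rw [commutator_def, Subgroup.commutator_le]
      intro x _ y _
      have key : ∀ x : G, ∃ t ∈ T, x⁻¹ * t ∈ N := by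
        intro x
        have hx : x ∈ T ⊔ N := by rw [hNT]; exact mem_top x
        rw [Subgroup.mem_sup_of_normal_right] at hx
        obtain ⟨t, ht, n, hn, rfl⟩ := hx
        refine ⟨t, ht, ?_⟩
        have e : (t * n)⁻¹ * t = n⁻¹ := by group
        rw [e]
        exact N.inv_mem hn
      obtain ⟨a, ha, hxa⟩ := key x
      obtain ⟨b, hb, hyb⟩ := key y
      rw [← QuotientGroup.eq_one_iff]
      have hx' : (x : G ⧸ N) = a := QuotientGroup.eq.2 hxa
      have hy' : (y : G ⧸ N) = b := QuotientGroup.eq.2 hyb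
      rw [commutatorElement_def, QuotientGroup.mk_mul, QuotientGroup.mk_mul, QuotientGroup.mk_mul,
        QuotientGroup.mk_inv, QuotientGroup.mk_inv, hx', hy', ← QuotientGroup.mk_mul, hab a ha b hb,
        QuotientGroup.mk_mul]
      group
    have hzN : z ∈ N := by
      apply hcomm
      rw [← hL] at hzL
      exact Subgroup.commutator_mono le_top le_top hzL
    have h1 : orderOf (⟨z, hzN⟩ : N) ∣ Nat.card N := orderOf_dvd_natCard _
    rw [Subgroup.orderOf_mk, hz] at h1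
    exact (Nat.not_even_iff_odd.2 hodd) (even_iff_two_dvd.2 h1)
  · have hNM : N ≤ M := le_sup_right.trans (hu (T ⊔ N) le_sup_left hNT)
    apply hM
    rw [eq_top_iff]
    intro g _
    obtain ⟨n, hn, h1⟩ := hall g
    have h2 := M.mul_mem (M.inv_mem (hNM hn)) (hcz (n * g) h1)
    rwa [inv_mul_cancel_left] at h2

end Cfsg.Agent.H249.OT
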